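import Groth.Agent.Proj16.Map
import Groth.Agent.ProjUPX.Unique
import Groth.Agent.ProjUPX.Sections
import Groth.Agent.ProjUPX.Make
import Groth.Agent.ZeroSchX.Basic
import Groth.Agent.InvX.Tensor
import Groth.Agent.InvX.Frame
import Groth.Agent.PnCoh.TwistH0
import Mathlib.AlgebraicGeometry.Morphisms.ClosedImmersion

/-! The subscheme of `Proj` cut out by an element of degree one. -/

noncomputable section

set_option linter.style.haveILetI false
set_option linter.unusedSectionVars false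
set_option backward.isDefEq.respectTransparency false
set_option backward.isDefEq.respectTransparency.types false

universe u

open CategoryTheory CategoryTheory.Limits AlgebraicGeometry TopologicalSpace HomogeneousLocalization

namespace Groth.Agent.Hyperplane

open Groth.Agent

variable {R A B : Type u} [CommRing R] [CommRing A] [Algebra R A] [CommRing B] [Algebra R B]
  {𝒜 : ℕ → Submodule R A} [GradedAlgebra 𝒜] {ℬ : ℕ → Submodule R B} [GradedAlgebra ℬ]
  (φ : 𝒜 →+*ᵍ ℬ) (hφ : HomogeneousIdeal.irrelevant ℬ ≤ (HomogeneousIdeal.irrelevant 𝒜).map φ)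

/-- The kernel of `Away.map` for a quotient by an element of degree one. -/
theorem ker_awayMap {a : A} (ha : a ∈ 𝒜 1) (hker : ∀ x, φ x = 0 ↔ a ∣ x) {t : A} (ht : t ∈ 𝒜 1) :
    RingHom.ker (Away.map φ t : Away 𝒜 t →+* Away ℬ (φ t)) =
      Ideal.span {Away.mk 𝒜 ht 1 a (by rwa [one_smul])} := by
  refine le_antisymm (fun x hx => ?_) ((Ideal.span_singleton_le_iff_mem _).2 ?_)
  · obtain ⟨n, b, hb, rfl⟩ := x.mk_surjective 𝒜 ht
    rw [RingHom.mem_ker, Away.map_mk, ← (HomogeneousLocalization.val_injective _).eq_iff,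
      Away.val_mk, HomogeneousLocalization.val_zero, Localization.mk_eq_mk',
      IsLocalization.mk'_eq_zero_iff] at hx
    obtain ⟨⟨_, m, rfl⟩, hm⟩ := hx
    have hm' : φ (t ^ (m + 1) * b) = 0 := by
      rw [pow_succ', mul_assoc, map_mul, map_mul, map_pow]
      exact (congrArg (φ t * ·) hm).trans (mul_zero _)
    obtain ⟨c, hc⟩ := (hker _).1 hm'
    have hb' : b ∈ 𝒜 n := by simpa using hb
    have hmem : t ^ (m + 1) * b ∈ 𝒜 (1 + (m + n)) := by
      have h := SetLike.mul_mem_graded (SetLike.pow_mem_graded (m + 1) ht) hb'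
      rwa [show (m + 1) • 1 + n = 1 + (m + n) by simp only [smul_eq_mul]; omega] at h
    let c' : A := GradedRing.proj 𝒜 (m + n) c
    have hc' : t ^ (m + 1) * b = a * c' := by
      have h := DirectSum.coe_decompose_mul_add_of_left_mem (b := c) (j := m + n) 𝒜 ha
      rw [← hc, DirectSum.decompose_of_mem_same 𝒜 hmem] at h
      exact h
    refine Ideal.mem_span_singleton.2 ⟨Away.mk 𝒜 ht (m + n) c' (by simpa [c'] using SetLike.coe_mem _), ?_⟩
    apply HomogeneousLocalization.val_injective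
    simp only [Away.val_mk, HomogeneousLocalization.val_mul, Localization.mk_mul]
    rw [Localization.mk_eq_mk_iff, Localization.r_iff_exists]
    refine ⟨1, ?_⟩
    simp only [OneMemClass.coe_one, one_mul, Submonoid.coe_mul, pow_one, pow_add]
    rw [← hc']
    ring
  · rw [RingHom.mem_ker, Away.map_mk]
    simp only [(hker a).2 dvd_rfl]
    apply HomogeneousLocalization.val_injective
    simp [Away.val_mk, Localization.mk_zero]

/-- The image of `Proj` of the quotient by an element of degree one is its zero scheme. -/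
theorem ker_map_eq (hsurj : Function.Surjective φ) {a : A} (ha : a ∈ 𝒜 1) (hker : ∀ x, φ x = 0 ↔ a ∣ x)
    {κ : Type*} (T : κ → A) (hT : ∀ i, T i ∈ 𝒜 1) (covT : ∀ y : Proj 𝒜, ∃ i, y ∈ Proj.basicOpen 𝒜 (T i))
    (hL : PicF.IsInvertible (Twist.twist 𝒜 1))
    (s : Coh.structureModule (Proj 𝒜) ⟶ Twist.twist 𝒜 1) (hs : InvX.one s = ProjUPX.sec 𝒜 ha) :
    (Proj.map φ hφ).ker = PicF2.zeroScheme (Twist.twist 𝒜 1) s := by
  haveI := Proj16.isClosedImmersion_map φ hφ hsurj
  refine Scheme.IdealSheafData.ext_of_iSup_eq_top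
    (fun i => ⟨Proj.basicOpen 𝒜 (T i), Proj.isAffineOpen_basicOpen 𝒜 (T i) (hT i) one_pos⟩)
    (eq_top_iff.2 fun y _ => Opens.mem_iSup.2 (covT y)) fun i => ?_
  have hsec : ZeroSchX.sv s (Proj.basicOpen 𝒜 (T i)) =
      (Proj.awayToSection 𝒜 (T i)).hom (Away.mk 𝒜 (hT i) 1 a (by rwa [one_smul])) •
        AModX.res (Twist.twist 𝒜 1) (le_top : Proj.basicOpen 𝒜 (T i) ≤ ⊤) (ProjUPX.sec 𝒜 (hT i)) := by
    rw [← ProjUPX.sec_eq_smul 𝒜 ha (hT i), ← hs]
    exact (ZeroSchX.res_sv s (le_top : Proj.basicOpen 𝒜 (T i) ≤ ⊤)).symm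
  rw [ZeroSchX.ideal_zeroScheme hL, ZeroSchX.zeroIdealOn_eq_span s (ProjUPX.isFrame_sec 𝒜 (hT i)) hsec,
    Scheme.Hom.ker_apply]
  haveI : IsIso (Proj.awayToSection 𝒜 (T i)) := (Proj.basicOpenIsoAway 𝒜 (T i) (hT i) one_pos).isIso_hom
  haveI : IsIso (Proj.awayToSection ℬ (φ (T i))) :=
    (Proj.basicOpenIsoAway ℬ (φ (T i)) (φ.2 (hT i)) one_pos).isIso_hom
  have hb := ConcreteCategory.bijective_of_isIso (Proj.awayToSection 𝒜 (T i))
  have hb' := ConcreteCategory.bijective_of_isIso (Proj.awayToSection ℬ (φ (T i)))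
  ext x
  obtain ⟨z, rfl⟩ := hb.2 x
  rw [RingHom.mem_ker, Ideal.mem_span_singleton]
  have happ : (Proj.map φ hφ).app (Proj.basicOpen 𝒜 (T i)) ((Proj.awayToSection 𝒜 (T i)) z) =
      (Proj.awayToSection ℬ (φ (T i))) (Away.map φ (T i) z) := by
    have h := congr(($(Proj.awayToSection_comp_appLE φ hφ (hT i))) z)
    rw [Scheme.Hom.app_eq_appLE]
    exact h
  rw [show ((Proj.map φ hφ).app (Proj.basicOpen 𝒜 (T i))).hom ((Proj.awayToSection 𝒜 (T i)) z) = _ from happ]
  constructor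
  · intro h
    have h' : z ∈ RingHom.ker (Away.map φ (T i) : Away 𝒜 (T i) →+* Away ℬ (φ (T i))) :=
      hb'.1 (h.trans (map_zero _).symm)
    rw [ker_awayMap φ ha hker (hT i), Ideal.mem_span_singleton] at h'
    obtain ⟨w, rfl⟩ := h'
    exact ⟨_, map_mul _ _ _⟩
  · rintro ⟨w, hw⟩
    obtain ⟨w, rfl⟩ := hb.2 w
    have hz : z = Away.mk 𝒜 (hT i) 1 a (by rwa [one_smul]) * w := hb.1 (hw.trans (map_mul _ _ _).symm)
    have h0 : z ∈ RingHom.ker (Away.map φ (T i) : Away 𝒜 (T i) →+* Away ℬ (φ (T i))) := by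
      rw [ker_awayMap φ ha hker (hT i), hz]
      exact Ideal.mul_mem_right _ _ (Ideal.mem_span_singleton_self _)
    rw [RingHom.mem_ker.1 h0, map_zero]

/-- The inverse image of `O(1)` along a surjection of graded algebras is `O(1)`. -/
theorem nonempty_pullback_twist_iso {κ : Type u} (T : κ → A) (hT : ∀ i, T i ∈ 𝒜 1)
    (covT : ∀ y : Proj 𝒜, ∃ i, y ∈ Proj.basicOpen 𝒜 (T i)) :
    Nonempty ((Scheme.Modules.pullback (Proj.map φ hφ)).obj (Twist.twist 𝒜 1) ≅ Twist.twist ℬ 1) := by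
  let r := Proj.map φ hφ
  let U : κ → (Proj ℬ).Opens := fun i => r ⁻¹ᵁ Proj.basicOpen 𝒜 (T i)
  have hcov : ∀ y : Proj ℬ, ∃ i, y ∈ U i := fun y => covT (r y)
  let e : ∀ i, Γ((Scheme.Modules.pullback r).obj (Twist.twist 𝒜 1), U i) := fun i =>
    AModX.res _ (le_top : U i ≤ ⊤) (ProjUPX.pullG r (hT i))
  let f : ∀ i, Γ(Twist.twist ℬ 1, U i) := fun i =>
    AModX.res _ (le_top : U i ≤ ⊤) (ProjUPX.sec ℬ (φ.2 (hT i)))
  have he : ∀ i, InvX.IsFrame (e i) := fun i => ProjUPX.isFrame_pullG r (hT i)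
  have hf : ∀ i, InvX.IsFrame (f i) := fun i => ProjUPX.isFrame_sec ℬ (φ.2 (hT i))
  have hratio : ∀ i j, ∀ {W : (Proj ℬ).Opens} (h : W ≤ U i),
      AModX.res (Twist.twist ℬ 1) (le_top : W ≤ ⊤) (ProjUPX.sec ℬ (φ.2 (hT j))) =
        ProjUPX.ratioOf r (hT j) (hT i) h •
          AModX.res (Twist.twist ℬ 1) (le_top : W ≤ ⊤) (ProjUPX.sec ℬ (φ.2 (hT i))) := by
    intro i j W h
    have h' : W ≤ Proj.basicOpen ℬ (φ (T i)) := h
    have h1 := congrArg (AModX.res (Twist.twist ℬ 1) h')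
      (ProjUPX.sec_eq_smul ℬ (φ.2 (hT j)) (φ.2 (hT i)))
    simp only [AModX.res_smul] at h1
    erw [AModX.res_res, AModX.res_res] at h1
    refine h1.trans ?_
    congr 1
    have h2 := congr(($(Proj.awayToSection_comp_appLE φ hφ (hT i)))
      (Away.mk 𝒜 (hT i) 1 (T j) (by rw [one_smul]; exact hT j)))
    simp only [CommRingCat.hom_comp, RingHom.coe_comp, Function.comp_apply, CommRingCat.hom_ofHom,
      Away.map_mk] at h2
    rw [ProjUPX.ratioOf]
    refine (congrArg (AModX.resR h) h2.symm).trans ?_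
    exact congr(($((Proj.map φ hφ).appLE_map (by rfl) (homOfLE h).op)) _)
  have hc1 : ∀ (a b : κ) (W : (Proj ℬ).Opens) (ha : W ≤ U a) (hb : W ≤ U b) (g : Γ(Proj ℬ, W)),
      AModX.res _ hb (e b) = g • AModX.res _ ha (e a) → AModX.res _ hb (f b) = g • AModX.res _ ha (f a) := by
    intro a b W ha hb g hg
    simp only [e, f, AModX.res_res] at hg ⊢
    rw [ProjUPX.res_pullG r (hT b) (hT a) ha] at hg
    have hfr := he a W ha
    rw [hratio a b ha, (he a).coord_unique (r := ProjUPX.ratioOf r (hT b) (hT a) ha) (r' := g) ha (by simpa only [e, AModX.res_res] using hg)]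
  have hc2 : ∀ (a b : κ) (W : (Proj ℬ).Opens) (ha : W ≤ U a) (hb : W ≤ U b) (g : Γ(Proj ℬ, W)),
      AModX.res _ hb (f b) = g • AModX.res _ ha (f a) → AModX.res _ hb (e b) = g • AModX.res _ ha (e a) := by
    intro a b W ha hb g hg
    simp only [e, f, AModX.res_res] at hg ⊢
    rw [hratio a b ha] at hg
    rw [ProjUPX.res_pullG r (hT b) (hT a) ha, (hf a).coord_unique (r := ProjUPX.ratioOf r (hT b) (hT a) ha) (r' := g) ha (by simpa only [f, AModX.res_res] using hg)]
  let F := InvX.ofFrames (U := U) (e := e) (n := f) hcov he hc1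
  let G := InvX.ofFrames (U := U) (e := f) (n := e) hcov hf hc2
  refine ⟨⟨F, G, InvX.hom_ext_of_frames U hcov e he fun i => ?_, InvX.hom_ext_of_frames U hcov f hf fun i => ?_⟩⟩
  · show G.app (U i) (F.app (U i) (e i)) = e i
    rw [InvX.ofFrames_app, InvX.ofFrames_app]
  · show F.app (U i) (G.app (U i) (f i)) = f i
    rw [InvX.ofFrames_app, InvX.ofFrames_app]

end Groth.Agent.Hyperplane
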