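import Groth.Agent.Hyperplane.Basic

/-! A hyperplane in projective space is a projective space. -/

noncomputable section

set_option linter.style.haveILetI false
set_option linter.unusedSectionVars false
set_option backward.isDefEq.respectTransparency false
set_option backward.isDefEq.respectTransparency.types false

universe u

open CategoryTheory CategoryTheory.Limits AlgebraicGeometry TopologicalSpace HomogeneousLocalization MvPolynomial

namespace Groth.Agent.Hyperplane

open Groth.Agent

attribute [local instance] MvPolynomial.gradedAlgebra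

theorem exists_subst {k : Type u} [Field k] {n : ℕ} {a : MvPolynomial (Fin (n + 1 + 1)) k}
    (ha : a.IsHomogeneous 1) (ha0 : a ≠ 0) :
    ∃ φ : MvPolynomial (Fin (n + 1 + 1)) k →ₐ[k] MvPolynomial (Fin (n + 1)) k,
      (∀ i, (φ (X i)).IsHomogeneous 1) ∧ Function.Surjective φ ∧ ∀ x, φ x = 0 ↔ a ∣ x := by
  classical
  obtain ⟨c, hc⟩ : ∃ c : Fin (n + 1 + 1) → k, a = ∑ i, C (c i) * X i := by
    refine ⟨fun i => a.coeff (Finsupp.single i 1), MvPolynomial.ext _ _ fun d => ?_⟩
    simp only [coeff_sum, coeff_C_mul, coeff_X']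
    by_cases hd : d.degree = 1
    · obtain ⟨i, rfl⟩ : d ∈ Set.range (fun i => Finsupp.single i 1) := by rw [Finsupp.range_single_one]; exact hd
      rw [Finset.sum_eq_single i (fun b _ hb => by
        rw [if_neg fun h => hb (Finsupp.single_left_injective one_ne_zero h), mul_zero]) (by simp),
        if_pos rfl, mul_one]
    · rw [ha.coeff_eq_zero hd, Finset.sum_eq_zero fun i _ => ?_]
      rw [if_neg fun h => hd (by rw [← h, Finsupp.degree_single]), mul_zero]
  obtain ⟨j, hj⟩ : ∃ j, c j ≠ 0 := by
    by_contra hall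
    push Not at hall
    exact ha0 (by rw [hc]; simp [hall])
  let w : MvPolynomial (Fin (n + 1)) k := ∑ l, C (-(c (j.succAbove l)) / c j) * X l
  let f : Fin (n + 1 + 1) → MvPolynomial (Fin (n + 1)) k := j.insertNth w fun l => X l
  let φ := aeval (R := k) f
  let ψ := aeval (R := k) (fun l => (X (j.succAbove l) : MvPolynomial (Fin (n + 1 + 1)) k))
  have hfj : φ (X j) = w := by simp [φ, f]
  have hfl : ∀ l, φ (X (j.succAbove l)) = X l := fun l => by simp [φ, f]
  have hφψ : ∀ y, φ (ψ y) = y := by
    have : φ.comp ψ = AlgHom.id k _ := MvPolynomial.algHom_ext fun l => by simp [ψ, hfl]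
    exact fun y => congr($this y)
  have hφa : φ a = 0 := by
    rw [hc, map_sum, Fin.sum_univ_succAbove _ j]
    simp only [map_mul, hfj, hfl, AlgHom.commutes, MvPolynomial.algebraMap_eq, MvPolynomial.algHom_C,
      show ∀ r : k, φ (C r) = C r from fun r => aeval_C _ r]
    simp only [w, Finset.mul_sum, ← Finset.sum_add_distrib]
    refine Finset.sum_eq_zero fun l _ => ?_
    rw [← mul_assoc, ← C_mul, ← add_mul, ← C_add,
      show c j * (-c (j.succAbove l) / c j) + c (j.succAbove l) = 0 by field_simp; ring]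
    simp
  let I : Ideal (MvPolynomial (Fin (n + 1 + 1)) k) := Ideal.span {a}
  have hmk : ∀ x, Ideal.Quotient.mk I (ψ (φ x)) = Ideal.Quotient.mk I x := by
    have key : (Ideal.Quotient.mkₐ k I).comp (ψ.comp φ) = Ideal.Quotient.mkₐ k I :=
      MvPolynomial.algHom_ext fun i => by
        rcases Fin.eq_self_or_eq_succAbove j i with h | ⟨l, rfl⟩
        · subst i
          show Ideal.Quotient.mk I (ψ (φ (X j))) = Ideal.Quotient.mk I (X j)
          rw [hfj, Ideal.Quotient.mk_eq_mk_iff_sub_mem, Ideal.mem_span_singleton]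
          refine ⟨C (-(c j)⁻¹), ?_⟩
          simp only [w, ψ, map_sum, map_mul, aeval_C, aeval_X, MvPolynomial.algebraMap_eq]
          rw [hc, Fin.sum_univ_succAbove _ j, add_mul, Finset.sum_mul, sub_eq_add_neg]
          refine (add_comm _ _).trans ?_
          congr 1
          · rw [mul_assoc, mul_comm (X j), ← mul_assoc, ← C_mul, mul_neg, mul_inv_cancel₀ hj, C_neg, C_1, neg_one_mul]
          · refine Finset.sum_congr rfl fun l _ => ?_
            rw [mul_assoc, mul_comm (X _), ← mul_assoc, ← C_mul]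
            congr 2
            field_simp
        · show Ideal.Quotient.mk I (ψ (φ (X (j.succAbove l)))) = _
          simp [hfl, ψ]
    exact fun x => congr($key x)
  refine ⟨φ, fun i => ?_, fun y => ⟨ψ y, hφψ y⟩, fun x => ⟨fun hx => ?_, fun ⟨y, hy⟩ => ?_⟩⟩
  · rcases Fin.eq_self_or_eq_succAbove j i with h | ⟨l, rfl⟩
    · rw [h, hfj]
      exact IsHomogeneous.sum _ _ _ fun l _ => (isHomogeneous_X k l).C_mul _
    · rw [hfl]; exact isHomogeneous_X k l
  · have h := hmk x
    rw [hx, map_zero, map_zero, eq_comm, Ideal.Quotient.eq_zero_iff_mem, Ideal.mem_span_singleton] at h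
    exact h
  · rw [hy, map_mul, hφa, zero_mul]

theorem exists_iso (k : Type u) [Field k] (n : ℕ)
    (s : Coh.structureModule (CohB1.ProjSpace (n + 1) k) ⟶ Twist.twistProjSpace (n + 1) k 1) (hs : s ≠ 0) :
    ∃ φ : CohB1.ProjSpace n k ≅ (PicF2.zeroScheme _ s).subscheme,
      Nonempty ((Scheme.Modules.pullback (φ.hom ≫ (PicF2.zeroScheme _ s).subschemeι)).obj
          (Twist.twistProjSpace (n + 1) k 1) ≅ Twist.twistProjSpace n k 1) := by
  obtain ⟨⟨a, ha⟩, has⟩ := PnCoh.exists_globalOf_eq (ι := Fin (n + 1 + 1)) (R := k) (d := 1) (InvX.one s)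
  have ha0 : a ≠ 0 := by
    intro h0
    subst h0
    refine hs (Scheme.Modules.hom_ext _ _ fun W => ?_)
    ext r
    refine (InvX.app_eq_smul s r).trans ?_
    have h1 : InvX.one s = 0 := by
      rw [← has]
      refine Subtype.ext (funext fun x => Subtype.ext ?_)
      exact Localization.mk_zero _
    rw [h1, map_zero, smul_zero]
    rfl
  obtain ⟨φ, hφ1, hsurj, hker⟩ := exists_subst ha ha0
  let g : CohB1.polyGrading (n + 1) k →+*ᵍ CohB1.polyGrading n k :=
    { φ.toRingHom with
      map_mem := fun {i p} hp => by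
        have h := ProjUPX.aeval_mem (𝒜 := CohB1.polyGrading n k) (T := fun l => φ (X l)) hφ1 hp
        rwa [show aeval (R := k) (fun l => φ (X l)) = φ from (MvPolynomial.aeval_unique φ).symm] at h }
  have hg : HomogeneousIdeal.irrelevant (CohB1.polyGrading n k) ≤
      (HomogeneousIdeal.irrelevant (CohB1.polyGrading (n + 1) k)).map g := by
    rw [HomogeneousIdeal.irrelevant_le]
    intro m hm b hb
    obtain ⟨p, hp, rfl⟩ := Proj16.exists_mem_of_surjective g hsurj hb
    exact Ideal.mem_map_of_mem _ (HomogeneousIdeal.mem_irrelevant_of_mem _ hm hp)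
  have hL : PicF.IsInvertible (Twist.twistProjSpace (n + 1) k 1) :=
    PnCoh.Finite.isInvertible_twist (fun i : ULift.{u} (Fin (n + 1 + 1)) => (X i.down : MvPolynomial _ k))
      (fun i => isHomogeneous_X k i.down) (eq_top_iff.2 fun y _ => Opens.mem_iSup.2
        ((ProjUPX.cov_X y).imp' ULift.up fun _ h => h)) 1
  haveI := Proj16.isClosedImmersion_map g hg hsurj
  have hk := ker_map_eq g hg hsurj ha hker (fun i : Fin (n + 1 + 1) => (X i : MvPolynomial _ k))
    (fun i => isHomogeneous_X k i) ProjUPX.cov_X hL s has.symm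
  let ι := (PicF2.zeroScheme (Twist.twistProjSpace (n + 1) k 1) s).subschemeι
  have hle : ι.ker = (Proj.map g hg).ker :=
    (Scheme.IdealSheafData.ker_subschemeι _).trans hk.symm
  haveI := IsClosedImmersion.isIso_lift ι (Proj.map g hg) hle
  refine ⟨asIso (IsClosedImmersion.lift ι (Proj.map g hg) hle.le), ?_⟩
  rw [asIso_hom, IsClosedImmersion.lift_fac]
  exact nonempty_pullback_twist_iso g hg (fun i : ULift.{u} (Fin (n + 1 + 1)) => (X i.down : MvPolynomial _ k))
    (fun i => isHomogeneous_X k i.down) fun y => (ProjUPX.cov_X y).imp' ULift.up fun _ h => h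

end Groth.Agent.Hyperplane
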